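import Cfsg.Agent.Lib.Helper35.Simple2
import Cfsg.Agent.Lib.Helper35.PresONN

namespace Cfsg.Agent.Lib.Helper35.ONNOrd.Y0

open Cfsg.Agent.Lib.Helper35

set_option maxRecDepth 100000
noncomputable section
def yw : List Nat := [0, 2, 4, 5, 3]
noncomputable def tA0 : Nat := 0x8b224000006619400000002342f1048308800
noncomputable def tJ0 : Nat := 0x1004000000c0400000000001000000200
noncomputable def tA1 : Nat := 0x110001940000000000000008a224001884108c00
noncomputable def tJ1 : Nat := 0x600000000000000000000010000200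
noncomputable def tA2 : Nat := 0xcb114671980040800000433d00000042248000cc410b02809000
noncomputable def tJ2 : Nat := 0x20000c0400020000000000000000000000200008040200
noncomputable def tA3 : Nat := 0x704aa33844000b110c00000d21080000192104300b42909400
noncomputable def tJ3 : Nat := 0x280c0000000080000000000000002900001008040200
noncomputable def tA4 : Nat := 0x452adb311194000000000034c420000064c000d0310002a09800
noncomputable def tJ4 : Nat := 0x10180802020000000000080400005a0000000000000000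
noncomputable def tA5 : Nat := 0x1a1000441b4ca0004324400000f00000010590000320b82b09c00
noncomputable def tJ5 : Nat := 0x5000000403000000000000000000002900001008040200
noncomputable def tA6 : Nat := 0x18769567599653a1474152359d6649561805e5705414854100000
noncomputable def tJ6 : Nat := 0xb3a49048440020c40c0510889ae23358281838682400000
noncomputable def tP : Nat := 0x2c2a252423201d1b1a151413120d0c0b0a09080000
def par : Par := ⟨10, 5, 1023, 31, 1055, 1024⟩
def tabs : Nat → Nat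
  | 0 => tA0
  | 1 => tA1
  | 2 => tA2
  | 3 => tA3
  | 4 => tA4
  | 5 => tA5
  | 6 => tA6
  | _ => 0
def pe (u : Nat) : Nat := Nat.land (Nat.shiftRight tP (Nat.mul u 8)) 255
def je0 (v : Nat) : Nat := Nat.land (Nat.shiftRight tJ0 (Nat.mul v 9)) 511
def stp0 (off v : Nat) : Nat := Nat.land (Nat.add (Nat.land (Nat.shiftRight tA0 (Nat.mul v 10)) 1023) off) 1055
theorem stp0_eq : ∀ off v, stp0 off v = step par (tabs 0) off v := fun _ _ => rfl
attribute [irreducible] stp0
def je1 (v : Nat) : Nat := Nat.land (Nat.shiftRight tJ1 (Nat.mul v 9)) 511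
def stp1 (off v : Nat) : Nat := Nat.land (Nat.add (Nat.land (Nat.shiftRight tA1 (Nat.mul v 10)) 1023) off) 1055
theorem stp1_eq : ∀ off v, stp1 off v = step par (tabs 1) off v := fun _ _ => rfl
attribute [irreducible] stp1
def je2 (v : Nat) : Nat := Nat.land (Nat.shiftRight tJ2 (Nat.mul v 9)) 511
def stp2 (off v : Nat) : Nat := Nat.land (Nat.add (Nat.land (Nat.shiftRight tA2 (Nat.mul v 10)) 1023) off) 1055
theorem stp2_eq : ∀ off v, stp2 off v = step par (tabs 2) off v := fun _ _ => rfl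
attribute [irreducible] stp2
def je3 (v : Nat) : Nat := Nat.land (Nat.shiftRight tJ3 (Nat.mul v 9)) 511
def stp3 (off v : Nat) : Nat := Nat.land (Nat.add (Nat.land (Nat.shiftRight tA3 (Nat.mul v 10)) 1023) off) 1055
theorem stp3_eq : ∀ off v, stp3 off v = step par (tabs 3) off v := fun _ _ => rfl
attribute [irreducible] stp3
def je4 (v : Nat) : Nat := Nat.land (Nat.shiftRight tJ4 (Nat.mul v 9)) 511
def stp4 (off v : Nat) : Nat := Nat.land (Nat.add (Nat.land (Nat.shiftRight tA4 (Nat.mul v 10)) 1023) off) 1055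
theorem stp4_eq : ∀ off v, stp4 off v = step par (tabs 4) off v := fun _ _ => rfl
attribute [irreducible] stp4
def je5 (v : Nat) : Nat := Nat.land (Nat.shiftRight tJ5 (Nat.mul v 9)) 511
def stp5 (off v : Nat) : Nat := Nat.land (Nat.add (Nat.land (Nat.shiftRight tA5 (Nat.mul v 10)) 1023) off) 1055
theorem stp5_eq : ∀ off v, stp5 off v = step par (tabs 5) off v := fun _ _ => rfl
attribute [irreducible] stp5
def je6 (v : Nat) : Nat := Nat.land (Nat.shiftRight tJ6 (Nat.mul v 9)) 511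
def stp6 (off v : Nat) : Nat := Nat.land (Nat.add (Nat.land (Nat.shiftRight tA6 (Nat.mul v 10)) 1023) off) 1055
theorem stp6_eq : ∀ off v, stp6 off v = step par (tabs 6) off v := fun _ _ => rfl
attribute [irreducible] stp6
def je : Nat → Nat → Nat
  | 0 => je0
  | 1 => je1
  | 2 => je2
  | 3 => je3
  | 4 => je4
  | 5 => je5
  | 6 => je6
  | _ => fun _ => 0
def st : Nat → Nat → Nat → Nat
  | 0 => stp0
  | 1 => stp1
  | 2 => stp2
  | 3 => stp3
  | 4 => stp4
  | 5 => stp5
  | 6 => stp6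
  | _ => fun off v => step par 0 off v
theorem hst : ∀ l off v, st l off v = step par (tabs l) off v := by
  intro l off v
  rcases Nat.lt_or_ge l 7 with h | h
  · interval_cases l
    exacts [stp0_eq off v, stp1_eq off v, stp2_eq off v, stp3_eq off v, stp4_eq off v, stp5_eq off v, stp6_eq off v]
  · obtain ⟨k, rfl⟩ : ∃ k, l = k + 7 := ⟨l - 7, by omega⟩
    rfl
def lf0_0 : Leaf (walkS st) := ⟨[1], [], 1, 0, (fun off v => (stp1 off v)), (fun _ v => v), (fun _ u _ => u), fun _ _ => rfl, fun _ _ => rfl⟩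
def lf0_2 : Leaf (walkS st) := ⟨[], [3, 1, 3], 16, 2, (fun _ v => v), (fun off v => (stp3 off (stp1 off (stp3 off v)))), (fun v _ _ => v), fun _ _ => rfl, fun _ _ => rfl⟩
def lf0_3 : Leaf (walkS st) := ⟨[], [4, 1, 4], 18, 2, (fun _ v => v), (fun off v => (stp4 off (stp1 off (stp4 off v)))), (fun v _ _ => v), fun _ _ => rfl, fun _ _ => rfl⟩
def lf0_4 : Leaf (walkS st) := ⟨[], [5, 1, 5], 20, 2, (fun _ v => v), (fun off v => (stp5 off (stp1 off (stp5 off v)))), (fun v _ _ => v), fun _ _ => rfl, fun _ _ => rfl⟩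
def tree0 : RTree (walkS st) :=
  (.node 2 (.node 1 (.fork lf0_0) .tleaf) (.node 3 (.fork lf0_2) (.node 4 (.fork lf0_3) (.fork lf0_4))))
def lf1_0 : Leaf (walkS st) := ⟨[0], [], 0, 0, (fun off v => (stp0 off v)), (fun _ v => v), (fun _ u _ => u), fun _ _ => rfl, fun _ _ => rfl⟩
def lf1_2 : Leaf (walkS st) := ⟨[], [0, 0], 30, 1, (fun _ v => v), (fun off v => (stp0 off (stp0 off v))), (fun v _ _ => v), fun _ _ => rfl, fun _ _ => rfl⟩
def lf1_3 : Leaf (walkS st) := ⟨[], [3, 0, 3], 17, 2, (fun _ v => v), (fun off v => (stp3 off (stp0 off (stp3 off v)))), (fun v _ _ => v), fun _ _ => rfl, fun _ _ => rfl⟩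
def tree1 : RTree (walkS st) :=
  (.node 1 (.fork lf1_0) (.node 2 .tleaf (.node 3 (.fork lf1_2) (.fork lf1_3))))
def lf2_0 : Leaf (walkS st) := ⟨[2], [], 2, 0, (fun off v => (stp2 off v)), (fun _ v => v), (fun _ u _ => u), fun _ _ => rfl, fun _ _ => rfl⟩
def lf2_2 : Leaf (walkS st) := ⟨[], [4, 2, 4], 8, 2, (fun _ v => v), (fun off v => (stp4 off (stp2 off (stp4 off v)))), (fun v _ _ => v), fun _ _ => rfl, fun _ _ => rfl⟩
def lf2_3 : Leaf (walkS st) := ⟨[], [5, 2, 5], 9, 2, (fun _ v => v), (fun off v => (stp5 off (stp2 off (stp5 off v)))), (fun v _ _ => v), fun _ _ => rfl, fun _ _ => rfl⟩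
def lf2_4 : Leaf (walkS st) := ⟨[], [6, 2], 2, 0, (fun _ v => v), (fun off v => (stp2 off (stp6 off v))), (fun v _ _ => v), fun _ _ => rfl, fun _ _ => rfl⟩
def tree2 : RTree (walkS st) :=
  (.node 1 (.fork lf2_0) (.node 2 .tleaf (.node 3 (.fork lf2_2) (.node 4 (.fork lf2_3) (.fork lf2_4)))))
def lf3_0 : Leaf (walkS st) := ⟨[3], [], 3, 0, (fun off v => (stp3 off v)), (fun _ v => v), (fun _ u _ => u), fun _ _ => rfl, fun _ _ => rfl⟩
def lf3_2 : Leaf (walkS st) := ⟨[], [5, 3, 5], 11, 0, (fun _ v => v), (fun off v => (stp5 off (stp3 off (stp5 off v)))), (fun v _ _ => v), fun _ _ => rfl, fun _ _ => rfl⟩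
def lf3_3 : Leaf (walkS st) := ⟨[], [5, 4, 2, 1], 6, 4, (fun _ v => v), (fun off v => (stp1 off (stp2 off (stp4 off (stp5 off v))))), (fun v _ _ => v), fun _ _ => rfl, fun _ _ => rfl⟩
def lf3_4 : Leaf (walkS st) := ⟨[6], [3], 3, 0, (fun off v => (stp6 off v)), (fun off v => (stp3 off v)), (fun _ _ p => p), fun _ _ => rfl, fun _ _ => rfl⟩
def lf3_5 : Leaf (walkS st) := ⟨[], [6, 3], 3, 0, (fun _ v => v), (fun off v => (stp3 off (stp6 off v))), (fun v _ _ => v), fun _ _ => rfl, fun _ _ => rfl⟩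
def tree3 : RTree (walkS st) :=
  (.node 1 (.fork lf3_0) (.node 2 .tleaf (.node 4 (.node 3 (.fork lf3_2) (.fork lf3_3)) (.node 5 (.fork lf3_4) (.fork lf3_5)))))
def lf4_1 : Leaf (walkS st) := ⟨[4], [], 4, 0, (fun off v => (stp4 off v)), (fun _ v => v), (fun _ u _ => u), fun _ _ => rfl, fun _ _ => rfl⟩
def lf4_2 : Leaf (walkS st) := ⟨[], [6, 4], 4, 0, (fun _ v => v), (fun off v => (stp4 off (stp6 off v))), (fun v _ _ => v), fun _ _ => rfl, fun _ _ => rfl⟩
def lf4_3 : Leaf (walkS st) := ⟨[], [2, 1, 3, 5], 6, 2, (fun _ v => v), (fun off v => (stp5 off (stp3 off (stp1 off (stp2 off v))))), (fun v _ _ => v), fun _ _ => rfl, fun _ _ => rfl⟩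
def lf4_4 : Leaf (walkS st) := ⟨[6], [4], 4, 0, (fun off v => (stp6 off v)), (fun off v => (stp4 off v)), (fun _ _ p => p), fun _ _ => rfl, fun _ _ => rfl⟩
def tree4 : RTree (walkS st) :=
  (.node 1 .tleaf (.node 2 (.fork lf4_1) (.node 3 (.fork lf4_2) (.node 4 (.fork lf4_3) (.fork lf4_4)))))
def lf5_0 : Leaf (walkS st) := ⟨[5], [], 5, 0, (fun off v => (stp5 off v)), (fun _ v => v), (fun _ u _ => u), fun _ _ => rfl, fun _ _ => rfl⟩
def lf5_2 : Leaf (walkS st) := ⟨[], [4, 2, 1, 3], 6, 3, (fun _ v => v), (fun off v => (stp3 off (stp1 off (stp2 off (stp4 off v))))), (fun v _ _ => v), fun _ _ => rfl, fun _ _ => rfl⟩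
def lf5_3 : Leaf (walkS st) := ⟨[], [3, 5, 3], 11, 3, (fun _ v => v), (fun off v => (stp3 off (stp5 off (stp3 off v)))), (fun v _ _ => v), fun _ _ => rfl, fun _ _ => rfl⟩
def lf5_4 : Leaf (walkS st) := ⟨[6], [5], 5, 0, (fun off v => (stp6 off v)), (fun off v => (stp5 off v)), (fun _ _ p => p), fun _ _ => rfl, fun _ _ => rfl⟩
def lf5_5 : Leaf (walkS st) := ⟨[], [6, 5], 5, 0, (fun _ v => v), (fun off v => (stp5 off (stp6 off v))), (fun v _ _ => v), fun _ _ => rfl, fun _ _ => rfl⟩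
def tree5 : RTree (walkS st) :=
  (.node 1 (.fork lf5_0) (.node 2 .tleaf (.node 4 (.node 3 (.fork lf5_2) (.fork lf5_3)) (.node 5 (.fork lf5_4) (.fork lf5_5)))))
def lf6_0 : Leaf (walkS st) := ⟨[3], [6, 3], 3, 0, (fun off v => (stp3 off v)), (fun off v => (stp3 off (stp6 off v))), (fun _ _ p => p), fun _ _ => rfl, fun _ _ => rfl⟩
def lf6_1 : Leaf (walkS st) := ⟨[5], [6, 5], 5, 0, (fun off v => (stp5 off v)), (fun off v => (stp5 off (stp6 off v))), (fun _ _ p => p), fun _ _ => rfl, fun _ _ => rfl⟩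
def lf6_2 : Leaf (walkS st) := ⟨[4], [6, 4], 4, 0, (fun off v => (stp4 off v)), (fun off v => (stp4 off (stp6 off v))), (fun _ _ p => p), fun _ _ => rfl, fun _ _ => rfl⟩
def lf6_3 : Leaf (walkS st) := ⟨[2], [6, 2, 6], 2, 0, (fun off v => (stp2 off v)), (fun off v => (stp6 off (stp2 off (stp6 off v)))), (fun _ _ p => p), fun _ _ => rfl, fun _ _ => rfl⟩
def lf6_4 : Leaf (walkS st) := ⟨[], [1, 3, 5, 4, 2], 6, 1, (fun _ v => v), (fun off v => (stp2 off (stp4 off (stp5 off (stp3 off (stp1 off v)))))), (fun v _ _ => v), fun _ _ => rfl, fun _ _ => rfl⟩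
def lf6_5 : Leaf (walkS st) := ⟨[], [2, 0, 2, 0, 2, 0], 15, 4, (fun _ v => v), (fun off v => (stp0 off (stp2 off (stp0 off (stp2 off (stp0 off (stp2 off v))))))), (fun v _ _ => v), fun _ _ => rfl, fun _ _ => rfl⟩
def lf6_6 : Leaf (walkS st) := ⟨[], [5, 3, 0, 2, 4], 23, 2, (fun _ v => v), (fun off v => (stp4 off (stp2 off (stp0 off (stp3 off (stp5 off v)))))), (fun v _ _ => v), fun _ _ => rfl, fun _ _ => rfl⟩
def lf6_7 : Leaf (walkS st) := ⟨[0], [6, 0, 6], 0, 0, (fun off v => (stp0 off v)), (fun off v => (stp6 off (stp0 off (stp6 off v)))), (fun _ _ p => p), fun _ _ => rfl, fun _ _ => rfl⟩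
def lf6_8 : Leaf (walkS st) := ⟨[6, 2], [2, 6, 6], 2, 0, (fun off v => (stp2 off (stp6 off v))), (fun off v => (stp6 off (stp6 off (stp2 off v)))), (fun _ _ p => p), fun _ _ => rfl, fun _ _ => rfl⟩
def lf6_9 : Leaf (walkS st) := ⟨[6, 4], [4], 4, 0, (fun off v => (stp4 off (stp6 off v))), (fun off v => (stp4 off v)), (fun _ _ p => p), fun _ _ => rfl, fun _ _ => rfl⟩
def lf6_10 : Leaf (walkS st) := ⟨[], [3, 4, 3, 4, 3, 4, 6], 10, 1, (fun _ v => v), (fun off v => (stp6 off (stp4 off (stp3 off (stp4 off (stp3 off (stp4 off (stp3 off v)))))))), (fun v _ _ => v), fun _ _ => rfl, fun _ _ => rfl⟩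
def lf6_11 : Leaf (walkS st) := ⟨[3, 6], [6, 3], 3, 0, (fun off v => (stp6 off (stp3 off v))), (fun off v => (stp3 off (stp6 off v))), (fun _ _ p => p), fun _ _ => rfl, fun _ _ => rfl⟩
def lf6_12 : Leaf (walkS st) := ⟨[], [4, 5, 4, 5, 4, 5], 29, 0, (fun _ v => v), (fun off v => (stp5 off (stp4 off (stp5 off (stp4 off (stp5 off (stp4 off v))))))), (fun v _ _ => v), fun _ _ => rfl, fun _ _ => rfl⟩
def tree6 : RTree (walkS st) :=
  (.node 4 (.node 2 (.node 1 (.fork lf6_0) (.fork lf6_1)) (.node 3 (.fork lf6_2) (.fork lf6_3))) (.node 8 (.node 6 (.node 5 (.fork lf6_4) (.fork lf6_5)) (.node 7 (.fork lf6_6) (.fork lf6_7))) (.node 10 (.node 9 (.fork lf6_8) (.fork lf6_9)) (.node 11 (.fork lf6_10) (.node 12 (.fork lf6_11) (.fork lf6_12))))))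
def trees : Nat → RTree (walkS st)
  | 0 => tree0
  | 1 => tree1
  | 2 => tree2
  | 3 => tree3
  | 4 => tree4
  | 5 => tree5
  | 6 => tree6
  | _ => .tleaf
noncomputable def fs0 (v : Nat) : Bool := chkSlot par tA0 je0 pe 4 15 8 (deadF par tA6) (fun _ => 20) tree0 0 v
noncomputable def fs1 (v : Nat) : Bool := chkSlot par tA1 je1 pe 4 15 8 (deadF par tA6) (fun _ => 20) tree1 1 v
noncomputable def fs2 (v : Nat) : Bool := chkSlot par tA2 je2 pe 4 15 8 (deadF par tA6) (fun _ => 20) tree2 2 v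
noncomputable def fs3 (v : Nat) : Bool := chkSlot par tA3 je3 pe 4 15 8 (deadF par tA6) (fun _ => 20) tree3 3 v
noncomputable def fs4 (v : Nat) : Bool := chkSlot par tA4 je4 pe 4 15 8 (deadF par tA6) (fun _ => 20) tree4 4 v
noncomputable def fs5 (v : Nat) : Bool := chkSlot par tA5 je5 pe 4 15 8 (deadF par tA6) (fun _ => 20) tree5 5 v
noncomputable def fs6 (v : Nat) : Bool := chkSlot par tA6 je6 pe 4 15 8 (fun _ => true) (fun v => Nat.pred v) tree6 6 v
def gl (k : Nat) : Bool := liveF par tA6 (Nat.succ k)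

end

end Cfsg.Agent.Lib.Helper35.ONNOrd.Y0
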